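import Groth.Agent.Lib.Helper2.RGColim.Cocone
import Mathlib.Algebra.Category.ModuleCat.FilteredColimits

/-!
# `H^q(Γ_I J) ≃ colim_n Hom_D(A/I^n, (Q J)⟦q⟧)` for `J` K-injective, and `H^q(RΓ_I K) ≃ HDI`
-/

set_option autoImplicit false
universe u
open CategoryTheory CategoryTheory.Limits Opposite

namespace Groth.Agent.Lib.Helper2.RGColim

open Groth.Agent.Lib.Helper13 Groth.Agent.Lib.Helper17.HDU1
open DerivedCategory

attribute [local instance] HasDerivedCategory.standard

variable {A : Type u} [CommRing A] (I : Ideal A)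

/-- The diagram `n ↦ Hom_D(A/I^n, X)`. -/
noncomputable abbrev F (X : Dual.D A) : (ℕᵒᵖ)ᵒᵖ ⥤ ModuleCat.{u + 1} A :=
  (localCohomology.ringModIdeals (localCohomology.idealPowersDiagram I) ⋙
      DerivedCategory.singleFunctor (ModuleCat.{u} A) 0).op ⋙ (linearYoneda A (Dual.D A)).obj X

instance preservesColimit_forget (F' : (ℕᵒᵖ)ᵒᵖ ⥤ ModuleCat.{u + 1} A) :
    PreservesColimit F' (forget (ModuleCat.{u + 1} A)) := by
  have h1 : PreservesColimit F' (forget₂ (ModuleCat.{u + 1} A) AddCommGrpCat.{u + 1}) :=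
    inferInstance
  have h0 : PreservesFilteredColimitsOfSize.{0, 0} (forget AddCommGrpCat.{u + 1}) :=
    preservesSmallestFilteredColimits_of_preservesFilteredColimits _
  have h2 : PreservesColimit (F' ⋙ forget₂ (ModuleCat.{u + 1} A) AddCommGrpCat.{u + 1})
      (forget AddCommGrpCat.{u + 1}) := inferInstance
  change PreservesColimit F'
    (forget₂ (ModuleCat.{u + 1} A) AddCommGrpCat.{u + 1} ⋙ forget AddCommGrpCat.{u + 1})
  infer_instance

variable (J : DRing.Cx A) (q : ℤ) [J.IsKInjective]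

lemma F_map_apply {n m : ℕ} (h : n ≤ m) (f : op (op n) ⟶ op (op m)) (φ : T I J q n) :
    ((F I ((Q.obj J)⟦q⟧)).map f).hom φ =
      (DerivedCategory.singleFunctor (ModuleCat.{u} A) 0).map (proj I h) ≫ φ := by
  have hf : f = ((homOfLE h).op.op : op (op n) ⟶ op (op m)) := Subsingleton.elim _ _
  subst hf
  rfl

/-- The cocone with point `H^q(Γ_I J)`. -/
noncomputable def cocone : Cocone (F I ((Q.obj J)⟦q⟧)) where
  pt := ModuleCat.of A (ULift.{u + 1} ((G I J).homology q))
  ι :=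
    { app := fun n => ModuleCat.ofHom
        ((ULift.moduleEquiv (R := A)).symm.toLinearMap ∘ₗ c I J q n.unop.unop)
      naturality := by
        intro n m f
        apply ModuleCat.hom_ext
        apply LinearMap.ext
        intro φ
        have hnm : n.unop.unop ≤ m.unop.unop := leOfHom f.unop.unop
        change (ULift.moduleEquiv (R := A)).symm (c I J q m.unop.unop
          (((F I ((Q.obj J)⟦q⟧)).map f).hom φ)) = (ULift.moduleEquiv (R := A)).symm (c I J q n.unop.unop φ)
        rw [F_map_apply I J q hnm f φ, c_proj] }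

lemma cocone_ι_apply (n : ℕ) (φ : T I J q n) :
    ((cocone I J q).ι.app (op (op n))).hom φ = (ULift.moduleEquiv (R := A)).symm (c I J q n φ) := rfl

/-- The comparison map. -/
noncomputable def Φ : colimit (F I ((Q.obj J)⟦q⟧)) ⟶ (cocone I J q).pt :=
  colimit.desc _ (cocone I J q)

lemma Φ_ι (n : ℕ) (φ : T I J q n) :
    (Φ I J q).hom ((colimit.ι (F I ((Q.obj J)⟦q⟧)) (op (op n))).hom φ) =
      (ULift.moduleEquiv (R := A)).symm (c I J q n φ) := by
  have h := colimit.ι_desc (cocone I J q) (op (op n))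
  have h2 := congrArg (fun f => f.hom φ) h
  exact h2

lemma Φ_surjective : Function.Surjective (Φ I J q).hom := by
  intro x
  obtain ⟨n, φ, hφ⟩ := c_jointly_surjective I J q ((ULift.moduleEquiv (R := A)) x)
  refine ⟨(colimit.ι (F I ((Q.obj J)⟦q⟧)) (op (op n))).hom φ, ?_⟩
  rw [Φ_ι, hφ]
  exact (ULift.moduleEquiv (R := A)).symm_apply_apply x

lemma Φ_injective : Function.Injective (Φ I J q).hom := by
  rw [injective_iff_map_eq_zero]
  intro x hx
  obtain ⟨j, φ, rfl⟩ := Concrete.colimit_exists_rep (F I ((Q.obj J)⟦q⟧)) x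
  obtain ⟨n, rfl⟩ : ∃ n : ℕ, j = op (op n) := ⟨j.unop.unop, rfl⟩
  have hx' : (Φ I J q).hom ((colimit.ι (F I ((Q.obj J)⟦q⟧)) (op (op n))).hom φ) = 0 := hx
  have h1 : c I J q n φ = 0 := by
    have h2 : (ULift.moduleEquiv (R := A)).symm (c I J q n φ) =
        (0 : ULift.{u + 1} ((G I J).homology q)) := (Φ_ι I J q n φ).symm.trans hx'
    exact (LinearEquiv.map_eq_zero_iff _).1 h2
  obtain ⟨m, hm, h0⟩ := c_eq_zero I J q n φ h1
  have hw := colimit.w (F I ((Q.obj J)⟦q⟧)) ((homOfLE hm).op.op : op (op n) ⟶ op (op m))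
  have hw2 := congrArg (fun f => f.hom φ) hw
  change (colimit.ι (F I ((Q.obj J)⟦q⟧)) (op (op m))).hom
    (((F I ((Q.obj J)⟦q⟧)).map ((homOfLE hm).op.op : op (op n) ⟶ op (op m))).hom φ) =
      (colimit.ι (F I ((Q.obj J)⟦q⟧)) (op (op n))).hom φ at hw2
  rw [F_map_apply I J q hm, h0] at hw2
  exact hw2.symm.trans (LinearMap.map_zero (colimit.ι (F I ((Q.obj J)⟦q⟧)) (op (op m))).hom)

/-- Model statement. -/
noncomputable def modelEquiv :
    (colimit (F I ((Q.obj J)⟦q⟧)) : ModuleCat.{u + 1} A) ≃ₗ[A] (G I J).homology q :=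
  (LinearEquiv.ofBijective (Φ I J q).hom ⟨Φ_injective I J q, Φ_surjective I J q⟩).trans
    (ULift.moduleEquiv (R := A))


omit [J.IsKInjective] in
/-- Transport of the diagram along an isomorphism of the target. -/
noncomputable def colimIso {X Y : Dual.D A} (e : X ≅ Y) : colimit (F I X) ≅ colimit (F I Y) :=
  HasColimit.isoOfNatIso (Functor.isoWhiskerLeft _ ((linearYoneda A (Dual.D A)).mapIso e))

theorem nonempty_equiv [DRing.HasRgammaI I] (K : Dual.D A) (q : ℤ) :
    Nonempty (Dual.HD A ((DRing.RgammaI I).obj K) q ≃ₗ[A] Dual2.HDI A I K q) := by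
  obtain ⟨J, g, hJ, hg⟩ := RG.hasKInjRes (A := A) (Q.objPreimage K)
  have : J.IsKInjective := hJ
  have hg' : IsIso (Q.map g) := by
    rw [DerivedCategory.isIso_Q_map_iff_quasiIso]; exact hg
  let e : K ≅ Q.obj J := (Q.objObjPreimageIso K).symm ≪≫ asIso (Q.map g)
  let e1 : (DerivedCategory.homologyFunctor (ModuleCat.{u} A) q).obj ((DRing.RgammaI I).obj K) ≅
      (G I J).homology q :=
    (DerivedCategory.homologyFunctor _ q).mapIso
        ((DRing.RgammaI I).mapIso e ≪≫ (RG.RgamIso I J).symm) ≪≫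
      (DerivedCategory.homologyFunctorFactors (ModuleCat.{u} A) q).app (G I J)
  let e2 : Dual2.HDI A I K q ≅ colimit (F I ((Q.obj J)⟦q⟧)) :=
    colimIso I ((shiftFunctor (Dual.D A) q).mapIso e)
  exact ⟨e1.toLinearEquiv ≪≫ₗ (modelEquiv I J q).symm ≪≫ₗ e2.symm.toLinearEquiv⟩

end Groth.Agent.Lib.Helper2.RGColim
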