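import Groth.Prelude.Def_DualLC
import Groth.Agent.Lib.Helper13.RGam2
import Groth.Agent.Lib.Helper17.HDU1
import Groth.Agent.Lib.Helper28.HomologyFiltered

/-!
# Cohomology classes of `Γ_I J` and maps `A/I^n ⟶ J⟦q⟧`
-/

set_option autoImplicit false
universe u
open CategoryTheory CategoryTheory.Limits Opposite

namespace Groth.Agent.Lib.Helper2.RGColim

open Groth.Agent.Lib.Helper13 Groth.Agent.Lib.Helper17.HDU1 Groth.Agent.Lib.Helper28.HomologyFiltered
open DerivedCategory

attribute [local instance] HasDerivedCategory.standard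

variable {A : Type u} [CommRing A]

section Homology

variable (G : DRing.Cx A) (q : ℤ)

/-- The short complex `G^{q-1} ⟶ G^q ⟶ G^{q+1}`. -/
noncomputable abbrev sc : ShortComplex (ModuleCat.{u} A) := G.sc' (q - 1) q (q + 1)

/-- Homology in degree `q` as the homology of `sc`. -/
noncomputable def hIso : G.homology q ≅ (sc G q).homology :=
  G.homologyIsoSc' (q - 1) q (q + 1) (by simp) (by simp)

/-- The class of a cycle, as a linear map. -/
noncomputable def b : LinearMap.ker (G.d q (q + 1)).hom →ₗ[A] G.homology q :=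
  (hIso G q).symm.toLinearEquiv.toLinearMap ∘ₗ (hEquiv (sc G q)).symm.toLinearMap ∘ₗ
    Submodule.mkQ _

lemma b_surjective : Function.Surjective (b G q) := by
  intro x
  obtain ⟨z, hz⟩ := cls_surjective (sc G q) ((hIso G q).toLinearEquiv x)
  refine ⟨z, ?_⟩
  change (hIso G q).symm.toLinearEquiv (cls (sc G q) z) = x
  rw [hz]
  exact (hIso G q).toLinearEquiv.symm_apply_apply x

lemma b_eq_zero_iff (z : LinearMap.ker (G.d q (q + 1)).hom) :
    b G q z = 0 ↔ ∃ w : G.X (q - 1), (G.d (q - 1) q).hom w = (z : G.X q) := by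
  change (hIso G q).symm.toLinearEquiv (cls (sc G q) z) = 0 ↔ _
  rw [LinearEquiv.map_eq_zero_iff]
  exact cls_eq_zero_iff (sc G q) z

end Homology

end Groth.Agent.Lib.Helper2.RGColim
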