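import Groth.Agent.Lib.Helper2.RGColim.Cls

/-!
# The cocone `Hom_D(A/I^n, (Q J)⟦q⟧) ⟶ H^q(Γ_I J)` for `J` K-injective
-/

set_option autoImplicit false
universe u
open CategoryTheory CategoryTheory.Limits Opposite

namespace Groth.Agent.Lib.Helper2.RGColim

open Groth.Agent.Lib.Helper13 Groth.Agent.Lib.Helper17.HDU1
open DerivedCategory

attribute [local instance] HasDerivedCategory.standard

variable {A : Type u} [CommRing A] (I : Ideal A)

/-- `A/I^n` as an object of the diagram. -/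
noncomputable abbrev N (n : ℕ) : ModuleCat.{u} A :=
  (localCohomology.ringModIdeals (localCohomology.idealPowersDiagram I)).obj (op n)

/-- The generator `1` of `A/I^n`. -/
noncomputable def one (n : ℕ) : N I n := Submodule.Quotient.mk (1 : A)

lemma smul_one_eq_zero (n : ℕ) (a : A) (ha : a ∈ I ^ n) : a • one I n = 0 := by
  change a • (Submodule.Quotient.mk (1 : A) : A ⧸ (I ^ n)) = 0
  rw [← Submodule.Quotient.mk_smul, Submodule.Quotient.mk_eq_zero]
  simpa using ha

/-- The map `A/I^n ⟶ M` attached to an element killed by `I^n`. -/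
noncomputable def gOf (n : ℕ) {M : ModuleCat.{u} A} (x : M) (hx : ∀ a ∈ I ^ n, a • x = 0) :
    N I n ⟶ M :=
  ModuleCat.ofHom (Submodule.liftQ (I ^ n) (LinearMap.toSpanSingleton A M x) (by
    intro a ha
    rw [LinearMap.mem_ker, LinearMap.toSpanSingleton_apply]
    exact hx a ha))

lemma gOf_one (n : ℕ) {M : ModuleCat.{u} A} (x : M) (hx : ∀ a ∈ I ^ n, a • x = 0) :
    (gOf I n x hx).hom (one I n) = x := by
  change (Submodule.liftQ (I ^ n) (LinearMap.toSpanSingleton A M x) _) (Submodule.Quotient.mk 1) = x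
  rw [Submodule.liftQ_apply, LinearMap.toSpanSingleton_apply, one_smul]

lemma hom_ext_N (n : ℕ) {M : ModuleCat.{u} A} (f g : N I n ⟶ M)
    (h : f.hom (one I n) = g.hom (one I n)) : f = g := by
  apply ModuleCat.hom_ext
  apply Submodule.linearMap_qext
  apply LinearMap.ext_ring
  exact h

lemma smul_apply_one (n : ℕ) {M : ModuleCat.{u} A} (f : N I n ⟶ M) (a : A) (ha : a ∈ I ^ n) :
    a • f.hom (one I n) = 0 := by
  rw [← map_smul, smul_one_eq_zero I n a ha, map_zero]

/-- The projection `A/I^m ⟶ A/I^n` for `n ≤ m`. -/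
noncomputable def proj {n m : ℕ} (h : n ≤ m) : N I m ⟶ N I n :=
  (localCohomology.ringModIdeals (localCohomology.idealPowersDiagram I)).map (homOfLE h).op

lemma proj_one {n m : ℕ} (h : n ≤ m) : (proj I h).hom (one I m) = one I n := rfl

variable (J : DRing.Cx A) (q : ℤ)

/-- `Γ_I J`. -/
noncomputable abbrev G : DRing.Cx A := (RG.gamCx I).obj J

/-- The cycle of `Γ_I J` attached to a cocycle `A/I^n ⟶ J^q`. -/
noncomputable def zOf (n : ℕ) (g : N I n ⟶ J.X q) (hg : g ≫ J.d q (q + 1) = 0) :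
    LinearMap.ker ((G I J).d q (q + 1)).hom :=
  ⟨⟨g.hom (one I n), ⟨n, fun a ha => smul_apply_one I n g a ha⟩⟩, by
    rw [LinearMap.mem_ker]
    apply Subtype.ext
    change (J.d q (q + 1)).hom (g.hom (one I n)) = 0
    have := congrArg (fun f => f.hom (one I n)) hg
    simpa using this⟩


lemma zOf_add (n : ℕ) (g g' : N I n ⟶ J.X q) (hg : g ≫ J.d q (q + 1) = 0)
    (hg' : g' ≫ J.d q (q + 1) = 0) (h : (g + g') ≫ J.d q (q + 1) = 0) :
    zOf I J q n (g + g') h = zOf I J q n g hg + zOf I J q n g' hg' := by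
  apply Subtype.ext
  apply Subtype.ext
  rfl

lemma zOf_smul (n : ℕ) (a : A) (g : N I n ⟶ J.X q) (hg : g ≫ J.d q (q + 1) = 0)
    (h : (a • g) ≫ J.d q (q + 1) = 0) :
    zOf I J q n (a • g) h = a • zOf I J q n g hg := by
  apply Subtype.ext
  apply Subtype.ext
  rfl

lemma zOf_congr (n : ℕ) {g g' : N I n ⟶ J.X q} (h : g = g') (hg : g ≫ J.d q (q + 1) = 0) :
    zOf I J q n g hg = zOf I J q n g' (h ▸ hg) := by
  subst h; rfl

lemma clsD_congr' (n : ℕ) {g g' : N I n ⟶ J.X q} (h : g = g') (hg : g ≫ J.d q (q + 1) = 0) :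
    clsD J q g hg = clsD J q g' (h ▸ hg) := by
  subst h; rfl

lemma clsD_smul {M : ModuleCat.{u} A} (a : A) (g : M ⟶ J.X q) (hg : g ≫ J.d q (q + 1) = 0)
    (h : (a • g) ≫ J.d q (q + 1) = 0) :
    clsD J q (a • g) h = a • clsD J q g hg := by
  have h1 := clsD_precomp J q (a • 𝟙 M) g hg
  rw [Functor.map_smul, CategoryTheory.Functor.map_id, Linear.smul_comp, Category.id_comp] at h1
  rw [h1]
  have : (a • 𝟙 M) ≫ g = a • g := by rw [Linear.smul_comp, Category.id_comp]
  subst_vars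
  congr 1
  rw [Linear.smul_comp, Category.id_comp]

/-- The underlying element of `J^k` of an element of `Γ_I(J^k)`. -/
def val {k : ℤ} (x : (G I J).X k) : J.X k := (show DRing.torsionSub I (J.X k) from x).1

lemma val_mem {k : ℤ} (x : (G I J).X k) : ∃ n : ℕ, ∀ a ∈ I ^ n, a • val I J x = 0 :=
  (show DRing.torsionSub I (J.X k) from x).2

/-- The element of `Γ_I(J^{q-1})` attached to a map `A/I^n ⟶ J^{q-1}`. -/
noncomputable def wOf (n : ℕ) (h : N I n ⟶ J.X (q - 1)) : (G I J).X (q - 1) :=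
  ⟨h.hom (one I n), ⟨n, fun a ha => smul_apply_one I n h a ha⟩⟩

variable [J.IsKInjective]

lemma b_zOf_eq_zero (n : ℕ) (k : N I n ⟶ J.X q) (hk : k ≫ J.d q (q + 1) = 0)
    (h : clsD J q k hk = 0) : b (G I J) q (zOf I J q n k hk) = 0 := by
  obtain ⟨h', hh'⟩ := (clsD_eq_zero_iff J q k hk).1 h
  rw [b_eq_zero_iff]
  refine ⟨wOf I J q n h', ?_⟩
  apply Subtype.ext
  change (J.d (q - 1) q).hom (h'.hom (one I n)) = k.hom (one I n)
  rw [← hh']
  rfl

lemma b_zOf_eq (n : ℕ) (g g' : N I n ⟶ J.X q) (hg : g ≫ J.d q (q + 1) = 0)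
    (hg' : g' ≫ J.d q (q + 1) = 0) (h : clsD J q g hg = clsD J q g' hg') :
    b (G I J) q (zOf I J q n g hg) = b (G I J) q (zOf I J q n g' hg') := by
  obtain ⟨k, rfl⟩ : ∃ k, g = g' + k := ⟨g - g', by abel⟩
  have hk : k ≫ J.d q (q + 1) = 0 := by
    rw [Preadditive.add_comp, hg', zero_add] at hg
    exact hg
  rw [clsD_add J q g' k hg' hk] at h
  have h0 : clsD J q k hk = 0 := by
    have := h
    rwa [add_eq_left] at this
  rw [zOf_add I J q n g' k hg' hk hg, map_add, b_zOf_eq_zero I J q n k hk h0, add_zero]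

/-- The hom-module `Hom_D(A/I^n, (QJ)⟦q⟧)`. -/
abbrev T (n : ℕ) : Type (u + 1) :=
  (DerivedCategory.singleFunctor (ModuleCat.{u} A) 0).obj (N I n) ⟶ (Q.obj J)⟦q⟧

/-- The cocone component as a function. -/
noncomputable def cFun (n : ℕ) (φ : T I J q n) : (G I J).homology q :=
  b (G I J) q (zOf I J q n (clsD_surjective J q φ).choose (clsD_surjective J q φ).choose_spec.choose)

lemma cFun_clsD (n : ℕ) (g : N I n ⟶ J.X q) (hg : g ≫ J.d q (q + 1) = 0) :
    cFun I J q n (clsD J q g hg) = b (G I J) q (zOf I J q n g hg) :=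
  b_zOf_eq I J q n _ _ _ _ (clsD_surjective J q (clsD J q g hg)).choose_spec.choose_spec

/-- The cocone component as a linear map. -/
noncomputable def c (n : ℕ) : T I J q n →ₗ[A] (G I J).homology q where
  toFun := cFun I J q n
  map_add' φ φ' := by
    obtain ⟨g, hg, rfl⟩ := clsD_surjective J q φ
    obtain ⟨g', hg', rfl⟩ := clsD_surjective J q φ'
    have hs : (g + g') ≫ J.d q (q + 1) = 0 := by rw [Preadditive.add_comp, hg, hg', add_zero]
    rw [← clsD_add J q g g' hg hg', cFun_clsD, cFun_clsD, cFun_clsD, zOf_add I J q n g g' hg hg' hs,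
      map_add]
  map_smul' a φ := by
    obtain ⟨g, hg, rfl⟩ := clsD_surjective J q φ
    have hs : (a • g) ≫ J.d q (q + 1) = 0 := by rw [Linear.smul_comp, hg, smul_zero]
    rw [← clsD_smul J q a g hg hs, cFun_clsD, cFun_clsD, zOf_smul I J q n a g hg hs, map_smul]
    rfl

lemma c_clsD (n : ℕ) (g : N I n ⟶ J.X q) (hg : g ≫ J.d q (q + 1) = 0) :
    c I J q n (clsD J q g hg) = b (G I J) q (zOf I J q n g hg) := cFun_clsD I J q n g hg

lemma c_proj {n m : ℕ} (h : n ≤ m) (φ : T I J q n) :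
    c I J q m ((DerivedCategory.singleFunctor (ModuleCat.{u} A) 0).map (proj I h) ≫ φ) =
      c I J q n φ := by
  obtain ⟨g, hg, rfl⟩ := clsD_surjective J q φ
  rw [clsD_precomp J q (proj I h) g hg, c_clsD, c_clsD]
  congr 1

lemma c_jointly_surjective (ξ : (G I J).homology q) :
    ∃ (n : ℕ) (φ : T I J q n), c I J q n φ = ξ := by
  obtain ⟨z, rfl⟩ := b_surjective (G I J) q ξ
  obtain ⟨n, hn⟩ := val_mem I J (z : (G I J).X q)
  have hz : ((G I J).d q (q + 1)).hom (z : (G I J).X q) = 0 := z.2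
  have hz' : (J.d q (q + 1)).hom (val I J (z : (G I J).X q)) = 0 := congrArg Subtype.val hz
  have hg : gOf I n (val I J (z : (G I J).X q)) hn ≫ J.d q (q + 1) = 0 := by
    apply hom_ext_N
    change (J.d q (q + 1)).hom ((gOf I n _ hn).hom (one I n)) = 0
    rw [gOf_one]
    exact hz'
  refine ⟨n, clsD J q (gOf I n _ hn) hg, ?_⟩
  rw [c_clsD]
  congr 1
  apply Subtype.ext
  apply Subtype.ext
  exact gOf_one I n _ hn

lemma c_eq_zero (n : ℕ) (φ : T I J q n) (h : c I J q n φ = 0) :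
    ∃ (m : ℕ) (hm : n ≤ m),
      (DerivedCategory.singleFunctor (ModuleCat.{u} A) 0).map (proj I hm) ≫ φ = 0 := by
  obtain ⟨g, hg, rfl⟩ := clsD_surjective J q φ
  rw [c_clsD, b_eq_zero_iff] at h
  obtain ⟨w, hw⟩ := h
  obtain ⟨m0, hm0⟩ := val_mem I J w
  have hw' : (J.d (q - 1) q).hom (val I J w) = g.hom (one I n) := congrArg Subtype.val hw
  refine ⟨max n m0, le_max_left _ _, ?_⟩
  rw [clsD_precomp J q (proj I (le_max_left n m0)) g hg, clsD_eq_zero_iff]
  have hm1 : ∀ a ∈ I ^ (max n m0), a • val I J w = 0 := fun a ha =>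
    hm0 a (Ideal.pow_le_pow_right (le_max_right n m0) ha)
  refine ⟨gOf I (max n m0) (val I J w) hm1, ?_⟩
  apply hom_ext_N
  change (J.d (q - 1) q).hom ((gOf I (max n m0) _ hm1).hom (one I (max n m0))) =
    g.hom ((proj I (le_max_left n m0)).hom (one I (max n m0)))
  rw [gOf_one, hw', proj_one]

end Groth.Agent.Lib.Helper2.RGColim
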